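import Mathlib.AlgebraicGeometry.Group.Abelian
import Mathlib.AlgebraicGeometry.Properties
import Groth.Agent.H23.EquidimFibres
import Groth.Agent.Lib.AbDualBase

/-!
Translating a prime divisor of an abelian variety by differences of points of a disjoint irreducible closed set.
-/

noncomputable section

set_option autoImplicit false
set_option linter.style.haveILetI false
set_option backward.isDefEq.respectTransparency.types false

universe u

open CategoryTheory CategoryTheory.Limits MonoidalCategory CartesianMonoidalCategory MonObj AlgebraicGeometry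

namespace Groth.Agent.AVTransDiv

open Groth.Agent

/-- a closed irreducible set containing a codimension one closed irreducible set is that set or everything -/
theorem eq_or_eq_univ {X : Scheme.{u}} [IsIntegral X] {ξ : X} (hcodim : ringKrullDim (X.presheaf.stalk ξ) = 1)
    {Z : Set X} (hZc : IsClosed Z) (hZ : IsIrreducible Z) (hξ : ξ ∈ Z) :
    Z = closure {ξ} ∨ Z = Set.univ := by
  obtain ⟨η', hη'⟩ := QuasiSober.sober hZ hZc
  have hgen : η' ⤳ ξ := hη'.specializes hξ
  by_cases h1 : η' = ξ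
  · left
    rw [← hη'.def, h1]
  right
  rw [← hη'.def]
  by_cases h2 : η' = genericPoint X
  · rw [h2]
    exact genericPoint_closure X
  exfalso
  have hc : Order.coheight ξ = 1 := by
    have := ringKrullDim_stalk_eq_coheight ξ
    rw [hcodim] at this
    exact_mod_cast this.symm
  have hlt : ∀ {a b : X}, b ⤳ a → a ≠ b → a < b := fun {a b} h hne =>
    lt_iff_le_not_ge.2 ⟨Scheme.le_iff_specializes.2 h,
      fun h' => hne ((Scheme.le_iff_specializes.1 h').antisymm h).eq⟩
  have hlt1 : ξ < η' := hlt hgen (Ne.symm h1)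
  have hlt2 : η' < genericPoint X := hlt (genericPoint_specializes _) h2
  have h3 := Order.coheight_add_one_le hlt1
  have h4 := Order.coheight_add_one_le hlt2
  rw [hc] at h3
  have h5 : (2 : ℕ∞) ≤ 1 := by
    calc (2 : ℕ∞) = 0 + 1 + 1 := by norm_num
      _ ≤ Order.coheight η' + 1 := by gcongr; exact le_trans (by simp) h4
      _ ≤ 1 := h3
  exact absurd h5 (by norm_num)

variable {k : Type u} [Field k] [IsAlgClosed k]
set_option linter.unusedSectionVars false
variable (A : Over (Spec (CommRingCat.of k))) [GrpObj A]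

/-- right translation -/
abbrev tr (x : 𝟙_ (Over (Spec (CommRingCat.of k))) ⟶ A) : A ⟶ A := 𝟙 A * (toUnit A ≫ x)

theorem tr_comp [IsCommMonObj A] (x y : 𝟙_ (Over (Spec (CommRingCat.of k))) ⟶ A) :
    tr A x ≫ tr A y = tr A (x * y) := by
  simp only [tr, comp_mul, Category.comp_id, ← Category.assoc, toUnit_unique _ (toUnit A)]
  rw [_root_.mul_assoc]

theorem tr_one : tr A 1 = 𝟙 A := by
  simp [tr, comp_one]

theorem tr_preimage_eq [IsProper A.hom] [GeometricallyIntegral A.hom]
    (Δ : Set A.left) (hΔ : IsClosed Δ) (ξ : A.left) (hξ : closure {ξ} = Δ)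
    (hcodim : ringKrullDim (A.left.presheaf.stalk ξ) = 1)
    (C : Set A.left) (hC : IsClosed C) (hCirr : IsIrreducible C) (hdisj : Disjoint C Δ)
    (x y : 𝟙_ (Over (Spec (CommRingCat.of k))) ⟶ A)
    (hx : Set.range x.left.base ⊆ C) (hy : Set.range y.left.base ⊆ C) :
    (tr A x).left.base ⁻¹' Δ = (tr A y).left.base ⁻¹' Δ := by
  haveI : Subsingleton ↥(Spec (CommRingCat.of k)) := inferInstanceAs (Subsingleton (PrimeSpectrum k))
  haveI : Nonempty ↥(Spec (CommRingCat.of k)) := inferInstanceAs (Nonempty (PrimeSpectrum k))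
  haveI : IsIntegral A.left := GeometricallyIntegral.isIntegral_of_subsingleton A.hom
  have hΔirr : IsIrreducible Δ := hξ ▸ isIrreducible_singleton.closure
  obtain ⟨C', a, ha, har, hC'p, hC'g, -⟩ := H23.EquidimFibres.exists_integral_sub (X := A) hC hCirr
  obtain ⟨D', b, hb, hbr, hD'p, hD'g, hD'i⟩ := H23.EquidimFibres.exists_integral_sub (X := A) hΔ hΔirr
  let m : A ⊗ A ⟶ A := snd A A * (fst A A)⁻¹
  let ψ : C' ⊗ D' ⟶ A := (a ⊗ₘ b) ≫ m
  let Z : Set A.left := Set.range ψ.left
  haveI : IsProper (C' ⊗ D').hom := by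
    rw [Over.tensorObj_hom]
    infer_instance
  haveI : IsProper (ψ.left ≫ A.hom) := by
    rw [Over.w ψ]
    infer_instance
  haveI : IsProper ψ.left := IsProper.of_comp ψ.left A.hom
  have hZc : IsClosed Z := ψ.left.isClosedMap.isClosed_range
  haveI : IsIntegral (C' ⊗ D').left := by
    haveI : IsLocallyNoetherian D'.left := LocallyOfFiniteType.isLocallyNoetherian D'.hom
    show IsIntegral (pullback C'.hom D'.hom)
    infer_instance
  have hZi : IsIrreducible Z := by
    show IsIrreducible (Set.range ψ.left)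
    rw [← Set.image_univ]
    exact (IrreducibleSpace.isIrreducible_univ _).image _ ψ.left.continuous.continuousOn
  have hab : Set.range (a ⊗ₘ b).left = (fst A A).left ⁻¹' C ∩ (snd A A).left ⁻¹' Δ := by
    rw [Over.tensorHom_left, Scheme.Pullback.range_map, har, hbr]
    rfl
  have hne : η[A].left (IsLocalRing.closedPoint k) ∉ Z := by
    rintro ⟨p, hp⟩
    obtain ⟨q, hq, -⟩ := Scheme.Pullback.exists_preimage_pullback (f := ψ.left) (g := η[A].left) p (IsLocalRing.closedPoint k) hp
    let T : Over (Spec (CommRingCat.of k)) := Over.mk (pullback.fst ψ.left η[A].left ≫ (C' ⊗ D').hom)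
    let t : T ⟶ C' ⊗ D' := Over.homMk (pullback.fst ψ.left η[A].left) rfl
    have hA := Over.w η[A]
    have hψ := Over.w ψ
    let t' : T ⟶ 𝟙_ (Over (Spec (CommRingCat.of k))) := Over.homMk (pullback.snd ψ.left η[A].left) (by
      show pullback.snd ψ.left η[A].left ≫ (𝟙_ (Over (Spec (CommRingCat.of k)))).hom = pullback.fst ψ.left η[A].left ≫ (C' ⊗ D').hom
      rw [← hA, ← hψ, pullback.condition_assoc])
    have h1 : t ≫ ψ = 1 := by
      have : t ≫ ψ = t' ≫ η[A] := Over.OverMorphism.ext pullback.condition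
      rw [this, one_eq_one, comp_one]
    have h2 : t ≫ snd C' D' ≫ b = t ≫ fst C' D' ≫ a := by
      have : (t ≫ snd C' D' ≫ b) * (t ≫ fst C' D' ≫ a)⁻¹ = 1 := by
        rw [← h1]
        simp [ψ, m, comp_mul, GrpObj.comp_inv]
      exact mul_inv_eq_one.1 this
    have h3 : (t ≫ snd C' D' ≫ b).left q = (t ≫ fst C' D' ≫ a).left q := by rw [h2]
    simp only [Over.comp_left, Scheme.Hom.comp_apply] at h3
    have hmemD : b.left ((snd C' D').left (t.left q)) ∈ Δ := by
      rw [← hbr]
      exact ⟨_, rfl⟩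
    rw [h3] at hmemD
    exact Set.disjoint_left.1 hdisj (by rw [← har]; exact ⟨_, rfl⟩) hmemD
  have hsub : ∀ z : 𝟙_ (Over (Spec (CommRingCat.of k))) ⟶ A, Set.range z.left.base ⊆ C →
      (tr A z).left.base ⁻¹' Δ ⊆ Z := by
    intro z hz w hw
    let s : A ⟶ A ⊗ A := lift (toUnit A ≫ z) (tr A z)
    have hs : s ≫ m = 𝟙 A := by simp [s, m, tr, comp_mul, GrpObj.comp_inv]
    have hmem : s.left w ∈ (fst A A).left ⁻¹' C ∩ (snd A A).left ⁻¹' Δ := by
      refine ⟨?_, ?_⟩
      · show (fst A A).left (s.left w) ∈ C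
        rw [← Scheme.Hom.comp_apply, ← Over.comp_left, lift_fst, Over.comp_left, Scheme.Hom.comp_apply]
        exact hz ⟨_, rfl⟩
      · show (snd A A).left (s.left w) ∈ Δ
        rw [← Scheme.Hom.comp_apply, ← Over.comp_left, lift_snd]
        exact hw
    rw [← hab] at hmem
    obtain ⟨p, hp⟩ := hmem
    refine ⟨p, ?_⟩
    show ((a ⊗ₘ b) ≫ m).left p = w
    rw [Over.comp_left, Scheme.Hom.comp_apply, hp, ← Scheme.Hom.comp_apply, ← Over.comp_left, hs]
    rfl
  haveI : IsCommMonObj A := isCommMonObj_of_isProper_of_geometricallyIntegral A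
  have heq : ∀ z : 𝟙_ (Over (Spec (CommRingCat.of k))) ⟶ A, Set.range z.left.base ⊆ C →
      (tr A z).left.base ⁻¹' Δ = Z := by
    intro z hz
    let w := (tr A z⁻¹).left ξ
    have hw : (tr A z).left w = ξ := by
      show (tr A z).left ((tr A z⁻¹).left ξ) = ξ
      rw [← Scheme.Hom.comp_apply, ← Over.comp_left, tr_comp, inv_mul_cancel, tr_one]
      rfl
    have hξZ : (tr A z).left w ∈ (tr A z⁻¹).left ⁻¹' Z := by
      show (tr A z⁻¹).left ((tr A z).left w) ∈ Z
      rw [hw]
      exact hsub z hz (show (tr A z).left w ∈ Δ by rw [hw, ← hξ]; exact subset_closure rfl)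
    have himg : (tr A z⁻¹).left ⁻¹' Z = (tr A z).left '' Z := by
      ext v
      constructor
      · intro hv
        refine ⟨_, hv, ?_⟩
        rw [← Scheme.Hom.comp_apply, ← Over.comp_left, tr_comp, inv_mul_cancel, tr_one]
        rfl
      · rintro ⟨u, hu, rfl⟩
        show (tr A z⁻¹).left ((tr A z).left u) ∈ Z
        rw [← Scheme.Hom.comp_apply, ← Over.comp_left, tr_comp, mul_inv_cancel, tr_one]
        exact hu
    have hirr : IsIrreducible ((tr A z⁻¹).left ⁻¹' Z) := by
      rw [himg]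
      exact hZi.image _ (tr A z).left.continuous.continuousOn
    rw [hw] at hξZ
    rcases eq_or_eq_univ hcodim (hZc.preimage (tr A z⁻¹).left.continuous) hirr hξZ with h | h
    · refine subset_antisymm (hsub z hz) fun v hv => ?_
      show (tr A z).left v ∈ Δ
      rw [← hξ, ← h]
      show (tr A z⁻¹).left ((tr A z).left v) ∈ Z
      rw [← Scheme.Hom.comp_apply, ← Over.comp_left, tr_comp, mul_inv_cancel, tr_one]
      exact hv
    · exfalso
      refine hne ?_
      have h6 : (tr A z).left (η[A].left (IsLocalRing.closedPoint k)) ∈ (tr A z⁻¹).left ⁻¹' Z := h ▸ Set.mem_univ _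
      have h7 : (tr A z⁻¹).left ((tr A z).left (η[A].left (IsLocalRing.closedPoint k))) ∈ Z := h6
      rwa [← Scheme.Hom.comp_apply (tr A z).left, ← Over.comp_left, tr_comp, mul_inv_cancel, tr_one] at h7
  rw [heq x hx, heq y hy]

theorem main [IsProper A.hom] [Smooth A.hom] [GeometricallyConnected A.hom]
    (Δ : Set A.left) (hΔ : IsClosed Δ) (ξ : A.left) (hξ : closure {ξ} = Δ)
    (hcodim : ringKrullDim (A.left.presheaf.stalk ξ) = 1)
    (C : Set A.left) (hC : IsClosed C) (hCirr : IsIrreducible C) (hdisj : Disjoint C Δ)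
    (x y : 𝟙_ (Over (Spec (CommRingCat.of k))) ⟶ A)
    (hx : Set.range x.left.base ⊆ C) (hy : Set.range y.left.base ⊆ C) :
    (tr A (x * y⁻¹)).left.base ⁻¹' Δ = Δ := by
  haveI := AbDualBase.geometricallyIntegral_hom A
  haveI : IsCommMonObj A := isCommMonObj_of_isProper_of_geometricallyIntegral A
  have h := tr_preimage_eq A Δ hΔ ξ hξ hcodim C hC hCirr hdisj x y hx hy
  have h1 : tr A (x * y⁻¹) = tr A y⁻¹ ≫ tr A x := by rw [tr_comp, mul_comm]
  rw [h1]
  ext v
  show (tr A y⁻¹ ≫ tr A x).left v ∈ Δ ↔ _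
  rw [Over.comp_left, Scheme.Hom.comp_apply]
  have h2 : (tr A x).left ((tr A y⁻¹).left v) ∈ Δ ↔ (tr A y).left ((tr A y⁻¹).left v) ∈ Δ :=
    Set.ext_iff.1 h _
  rw [h2, ← Scheme.Hom.comp_apply, ← Over.comp_left, tr_comp, inv_mul_cancel, tr_one]
  rfl

end Groth.Agent.AVTransDiv
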